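import Groth.Agent.Lib.H3.SeesawSch.Local
import Groth.Agent.Lib.HilbD.Basic

/-!
# The seesaw subscheme
-/

set_option autoImplicit false
set_option linter.style.haveILetI false

universe u

open CategoryTheory CategoryTheory.Limits AlgebraicGeometry TopologicalSpace Opposite

namespace Groth.Agent.Lib.H3.SeesawSch

open Groth.Agent.H97.GlueLine (Cocycle)
open Groth.Agent.Lib Groth.Agent.Lib.Cube Groth.Agent.Lib.Cube.Triv

noncomputable section

variable {X S : Scheme.{u}} (f : X ⟶ S) {ι : Type u} {U : ι → X.Opens} (c : Cocycle U)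

/-- The cocycle is trivial after base change along `v`. -/
def Tr {T : Scheme.{u}} (v : T ⟶ S) : Prop := TrivAlong c (pullback.fst f v)

theorem Tr.comp {T T' : Scheme.{u}} {v : T ⟶ S} (h : Tr f c v) (g : T' ⟶ T) : Tr f c (g ≫ v) := by
  let l : pullback f (g ≫ v) ⟶ pullback f v :=
    pullback.lift (pullback.fst _ _) (pullback.snd _ _ ≫ g) (by
      rw [Category.assoc]; exact pullback.condition)
  exact (TrivAlong.comp h l).of_eq (pullback.lift_fst _ _ _)

/-- Triviality over an algebra of the sections on an affine open. -/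
def TrAff {V : S.Opens} (hV : IsAffineOpen V) {K : Type u} [CommRing K] (ψ : Γ(S, V) →+* K) : Prop :=
  Tr f c (Spec.map (CommRingCat.ofHom ψ) ≫ hV.fromSpec)

theorem TrAff.comp {V : S.Opens} (hV : IsAffineOpen V) {K : Type u} [CommRing K]
    {ψ : Γ(S, V) →+* K} (h : TrAff f c hV ψ) {K' : Type u} [CommRing K'] (χ : K →+* K') :
    TrAff f c hV (χ.comp ψ) := by
  have h' := Tr.comp f c h (Spec.map (CommRingCat.ofHom χ))
  rw [← Category.assoc, ← Spec.map_comp, ← CommRingCat.ofHom_comp] at h'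
  exact h'

variable [IsProper f] [Flat f] [GeometricallyIntegral f] [IsLocallyNoetherian S]
  [LocallyOfFinitePresentation f] (hUc : iSup U = ⊤)

include hUc in
/-- Near every point of an affine open, triviality is the vanishing of an ideal. -/
theorem exists_local_aff {V : S.Opens} (hV : IsAffineOpen V) (s : PrimeSpectrum Γ(S, V)) :
    ∃ g : Γ(S, V), g ∉ s.asIdeal ∧ ∃ J : Ideal Γ(S, V), ∀ (K : Type u) [CommRing K]
      (ψ : Γ(S, V) →+* K), IsUnit (ψ g) → (TrAff f c hV ψ ↔ ∀ a ∈ J, ψ a = 0) := by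
  haveI : IsNoetherianRing Γ(S, V) := IsLocallyNoetherian.component_noetherian ⟨V, hV⟩
  let φ : Spec (CommRingCat.of Γ(S, V)) ⟶ S := hV.fromSpec
  haveI : IsOpenImmersion φ := hV.isOpenImmersion_fromSpec
  obtain ⟨ι', _, σ, U', hU', hUc', hσ⟩ := SeesawGlobal.exists_finite_cover f φ hUc
  haveI : IsProper (pullback f φ ↘ Spec (CommRingCat.of Γ(S, V))) :=
    inferInstanceAs (IsProper (pullback.snd f φ))
  haveI : Flat (pullback f φ ↘ Spec (CommRingCat.of Γ(S, V))) :=
    inferInstanceAs (Flat (pullback.snd f φ))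
  haveI : GeometricallyIntegral (pullback f φ ↘ Spec (CommRingCat.of Γ(S, V))) :=
    inferInstanceAs (GeometricallyIntegral (pullback.snd f φ))
  haveI : LocallyOfFinitePresentation (pullback f φ ↘ Spec (CommRingCat.of Γ(S, V))) :=
    inferInstanceAs (LocallyOfFinitePresentation (pullback.snd f φ))
  obtain ⟨g, hg, J, hJ⟩ := exists_local (SeesawGlobal.chartC f c φ σ hσ) hU' hUc' s
  refine ⟨g, hg, J, fun K _ ψ hψ => ?_⟩
  letI : Algebra Γ(S, V) K := ψ.toAlgebra
  refine Iff.trans ?_ (hJ K hψ)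
  let ξ : Spec (CommRingCat.of K) ⟶ Spec (CommRingCat.of Γ(S, V)) :=
    Spec.map (CommRingCat.ofHom (algebraMap Γ(S, V) K))
  constructor
  · intro h
    refine trivAlong_reindex (Triv.comap c (pullback.fst f φ)) σ hσ _ ?_
    let l : bcP (A := Γ(S, V)) (W := pullback f φ) K ⟶ pullback f (ξ ≫ φ) :=
      pullback.lift (pullback.fst _ _ ≫ pullback.fst f φ) (pullback.snd _ _) (by
        rw [Category.assoc, pullback.condition, ← Category.assoc, ← Category.assoc]
        exact congrArg (· ≫ φ) pullback.condition)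
    exact (TrivAlong.comp h l).of_eq (pullback.lift_fst _ _ _)
  · intro h
    have h' := trivAlong_of_reindex (Triv.comap c (pullback.fst f φ)) σ hσ hUc' _ h
    let l : pullback f (ξ ≫ φ) ⟶ bcP (A := Γ(S, V)) (W := pullback f φ) K :=
      pullback.lift (pullback.lift (pullback.fst _ _) (pullback.snd _ _ ≫ ξ)
        (by rw [Category.assoc]; exact pullback.condition)) (pullback.snd _ _)
        (pullback.lift_snd _ _ _)
    have h'' : TrivAlong c (bcG (A := Γ(S, V)) (W := pullback f φ) K ≫ pullback.fst f φ) := h'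
    refine (TrivAlong.comp h'' l).of_eq ?_
    exact ((Category.assoc _ _ _).symm.trans (congrArg (· ≫ pullback.fst f φ) (pullback.lift_fst _ _ _))).trans
      (pullback.lift_fst _ _ _)

/-- The functions vanishing on every trivial base change. -/
def idl (V : S.affineOpens) : Ideal Γ(S, V.1) where
  carrier := {a | ∀ (K : Type u) [CommRing K] (ψ : Γ(S, V.1) →+* K), TrAff f c V.2 ψ → ψ a = 0}
  add_mem' := fun ha hb K _ ψ h => by rw [map_add, ha K ψ h, hb K ψ h, add_zero]
  zero_mem' := fun K _ ψ _ => map_zero ψ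
  smul_mem' := fun r a ha K _ ψ h => by rw [smul_eq_mul, map_mul, ha K ψ h, mul_zero]

include hUc in
/-- Vanishing on the trivial base changes inverting `h` holds for a multiple by a power of `h`. -/
theorem exists_pow_mem (V : S.affineOpens) (h a : Γ(S, V.1))
    (ha : ∀ (K : Type u) [CommRing K] (ψ : Γ(S, V.1) →+* K), IsUnit (ψ h) → TrAff f c V.2 ψ → ψ a = 0) :
    ∃ n : ℕ, h ^ n * a ∈ idl f c V := by
  classical
  choose g hg J hJ using exists_local_aff f c hUc V.2
  have hspan : Ideal.span (Set.range g) = ⊤ := by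
    by_contra hne
    obtain ⟨m, hm, hle⟩ := Ideal.exists_le_maximal _ hne
    exact hg ⟨m, hm.isPrime⟩ (hle (Ideal.subset_span ⟨_, rfl⟩))
  obtain ⟨t, hts, ht⟩ := (Submodule.fg_span_iff_fg_span_finset_subset _).1
    (show (Ideal.span (Set.range g)).FG from hspan ▸ Module.Finite.fg_top)
  choose p hp using fun x : t => hts x.2
  have key : ∀ x : t, ∃ n : ℕ, (g (p x) * h) ^ n * a ∈ J (p x) := by
    intro x
    let w := g (p x) * h
    let L := Localization.Away w
    let q := (Ideal.Quotient.mk ((J (p x)).map (algebraMap Γ(S, V.1) L))).comp (algebraMap Γ(S, V.1) L)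
    have hu : IsUnit (q w) :=
      (IsLocalization.Away.algebraMap_isUnit (S := L) w).map (Ideal.Quotient.mk _)
    rw [map_mul] at hu
    have hz := ha _ q (isUnit_of_mul_isUnit_right hu)
      ((hJ (p x) _ q (isUnit_of_mul_isUnit_left hu)).2 fun b hb =>
        Ideal.Quotient.eq_zero_iff_mem.2 (Ideal.mem_map_of_mem _ hb))
    obtain ⟨⟨⟨j, hj⟩, ⟨_, n, rfl⟩⟩, he⟩ := (IsLocalization.mem_map_algebraMap_iff (Submonoid.powers w) L).1
      (Ideal.Quotient.eq_zero_iff_mem.1 hz)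
    rw [← map_mul] at he
    obtain ⟨⟨_, m, rfl⟩, hm⟩ := (IsLocalization.eq_iff_exists (Submonoid.powers w) L).1 he
    refine ⟨m + n, ?_⟩
    rw [pow_add, mul_assoc, mul_comm (w ^ n) a]
    exact hm ▸ Ideal.mul_mem_left _ _ hj
  choose n hn using key
  refine ⟨Finset.univ.sup n, fun K _ ψ hψ => ?_⟩
  have htop : Ideal.span (t : Set Γ(S, V.1)) = ⊤ := (show _ = Ideal.span (t : Set _) from ht).symm.trans hspan
  let an : Ideal Γ(S, V.1) :=
    { carrier := {r | ψ r * ψ (h ^ Finset.univ.sup n * a) = 0}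
      add_mem' := fun {r s} hr hs => by
        show ψ (r + s) * _ = 0
        rw [map_add, add_mul, hr, hs, add_zero]
      zero_mem' := by show ψ 0 * _ = 0; rw [map_zero, zero_mul]
      smul_mem' := fun r s hs => by
        show ψ (r * s) * _ = 0
        rw [map_mul, mul_assoc, hs, mul_zero] }
  suffices h1 : (1 : Γ(S, V.1)) ∈ an.radical by
    obtain ⟨N, hN⟩ := h1
    have hN' : ψ (1 ^ N) * ψ (h ^ Finset.univ.sup n * a) = 0 := hN
    rwa [one_pow, map_one, one_mul] at hN'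
  refine ((eq_top_iff.1 htop).trans (Ideal.span_le.2 fun y hy => ?_)) trivial
  obtain ⟨d, hd⟩ : ∃ d, (g (p ⟨y, hy⟩) * h) ^ d * a ∈ J (p ⟨y, hy⟩) ∧ d ≤ Finset.univ.sup n :=
    ⟨n ⟨y, hy⟩, hn _, Finset.le_sup (Finset.mem_univ _)⟩
  let gy := g (p ⟨y, hy⟩)
  let Kg := Localization.Away (ψ gy)
  have hu : IsUnit (((algebraMap K Kg).comp ψ) gy) := IsLocalization.Away.algebraMap_isUnit (ψ gy)
  have hz := (hJ (p ⟨y, hy⟩) _ ((algebraMap K Kg).comp ψ) hu).1 (TrAff.comp f c V.2 hψ _) _ hd.1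
  obtain ⟨⟨_, m, rfl⟩, hm⟩ := (IsLocalization.map_eq_zero_iff (Submonoid.powers (ψ gy)) Kg _).1 hz
  refine ⟨m + d, ?_⟩
  show ψ (y ^ (m + d)) * ψ (h ^ Finset.univ.sup n * a) = 0
  rw [show y = gy from (hp ⟨y, hy⟩).symm, ← Nat.sub_add_cancel hd.2, ← map_mul,
    show gy ^ (m + d) * (h ^ (Finset.univ.sup n - d + d) * a) =
      h ^ (Finset.univ.sup n - d) * (gy ^ m * ((gy * h) ^ d * a)) by ring,
    map_mul, map_mul, map_pow ψ gy m]
  exact mul_eq_zero_of_right _ hm

omit [IsProper f] [Flat f] [GeometricallyIntegral f] [IsLocallyNoetherian S]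
  [LocallyOfFinitePresentation f] in
theorem trAff_iff {V : S.Opens} (hV : IsAffineOpen V) {W : S.Opens} (hW : IsAffineOpen W) (h : W ≤ V)
    {K : Type u} [CommRing K] (ψ : Γ(S, W) →+* K) :
    TrAff f c hV (ψ.comp (S.presheaf.map (homOfLE h).op).hom) ↔ TrAff f c hW ψ := by
  unfold TrAff
  rw [CommRingCat.ofHom_comp, Spec.map_comp, Category.assoc, CommRingCat.ofHom_hom,
    hV.map_fromSpec hW]

include hUc in
/-- Functions on a basic open killed by the trivial base changes come from such functions. -/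
theorem mem_map_idl (V : S.affineOpens) (h : Γ(S, V.1)) (x : Γ(S, S.basicOpen h))
    (hx : x ∈ idl f c (S.affineBasicOpen h)) :
    x ∈ (idl f c V).map (algebraMap Γ(S, V.1) Γ(S, S.basicOpen h)) := by
  haveI : IsLocalization.Away h Γ(S, S.basicOpen h) := V.2.isLocalization_basicOpen h
  obtain ⟨⟨a, ⟨_, m, rfl⟩⟩, hxa⟩ := IsLocalization.surj (Submonoid.powers h) x
  dsimp only at hxa
  obtain ⟨n, hn⟩ := exists_pow_mem f c hUc V h a fun K _ ψ hu hψ => by
    let ψ' : Γ(S, S.basicOpen h) →+* K := IsLocalization.Away.lift h hu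
    have hl : ψ'.comp (S.presheaf.map (homOfLE (S.basicOpen_le h)).op).hom = ψ :=
      IsLocalization.Away.lift_comp h hu
    rw [← hl] at hψ
    have hx' : ψ' x = 0 :=
      hx K ψ' ((trAff_iff f c V.2 (S.affineBasicOpen h).2 (S.basicOpen_le h) ψ').1 hψ)
    have h2 := congrArg ψ' hxa
    rw [map_mul, hx', zero_mul] at h2
    rw [← hl]
    exact h2.symm
  have hu : IsUnit (algebraMap Γ(S, V.1) Γ(S, S.basicOpen h) (h ^ n * h ^ m)) := by
    rw [map_mul, map_pow, map_pow]
    exact ((IsLocalization.Away.algebraMap_isUnit h).pow n).mul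
      ((IsLocalization.Away.algebraMap_isUnit h).pow m)
  refine (Ideal.unit_mul_mem_iff_mem _ hu).1 ?_
  rw [map_mul, mul_assoc, mul_comm _ x, hxa, ← map_mul]
  exact Ideal.mem_map_of_mem _ hn

/-- The ideal sheaf of the seesaw subscheme. -/
def idealSheaf : S.IdealSheafData where
  ideal := idl f c
  map_ideal_basicOpen V h := by
    refine le_antisymm ?_ (fun x hx => mem_map_idl f c hUc V h x hx)
    refine Ideal.map_le_iff_le_comap.2 ?_
    intro a ha K _ ψ hψ
    exact ha K (ψ.comp _) ((trAff_iff f c V.2 (S.affineBasicOpen h).2 (S.basicOpen_le h) ψ).2 hψ)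

/-- The trivial base changes factor through the seesaw subscheme, and conversely locally. -/
theorem le_ker_of_locally {T : Scheme.{u}} (u : T ⟶ S)
    (h : ∀ t : T, ∃ W : T.Opens, t ∈ W ∧ Tr f c (W.ι ≫ u)) :
    (idealSheaf f c hUc).comap u = ⊥ := by
  rw [← le_bot_iff, ← Scheme.IdealSheafData.le_map_iff_comap_le, Scheme.IdealSheafData.map_bot]
  refine Scheme.IdealSheafData.le_ofIdeals_iff.2 fun V a ha => ?_
  rw [RingHom.mem_ker]
  refine T.sheaf.eq_of_locally_eq' (fun t : u ⁻¹ᵁ V.1 => (h t.1).choose ⊓ u ⁻¹ᵁ V.1) _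
    (fun t => homOfLE inf_le_right)
    (fun t ht => Opens.mem_iSup.2 ⟨⟨t, ht⟩, (h t).choose_spec.1, ht⟩) _ _ fun t => ?_
  let W₀ := (h t.1).choose
  refine T.sheaf.eq_of_locally_eq' (fun W : {W : T.affineOpens // W.1 ≤ W₀ ⊓ u ⁻¹ᵁ V.1} => W.1.1) _
    (fun W => homOfLE W.2) (fun y hy => ?_) _ _ fun W => ?_
  · obtain ⟨W', hW', hyW', hle⟩ := exists_isAffineOpen_mem_and_subset (show y ∈ W₀ ⊓ u ⁻¹ᵁ V.1 from hy)
    exact Opens.mem_iSup.2 ⟨⟨⟨W', hW'⟩, hle⟩, hyW'⟩
  · have hW' : IsAffineOpen W.1.1 := W.1.2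
    have hle : W.1.1 ≤ u ⁻¹ᵁ V.1 := W.2.trans inf_le_right
    have hz := ha Γ(T, W.1.1) (u.appLE V.1 W.1.1 hle).hom (by
      unfold TrAff
      refine (congrArg (Tr f c)
        (IsAffineOpen.SpecMap_appLE_fromSpec u (U := V.1) V.2 hW' hle)).mpr ?_
      rw [← IsAffineOpen.isoSpec_inv_ι hW', ← Scheme.homOfLE_ι T (W.2.trans inf_le_left)]
      simp only [Category.assoc]
      exact Tr.comp f c (Tr.comp f c (h t.1).choose_spec.2 _) _)
    erw [map_zero, map_zero, ← CommRingCat.comp_apply, ← Functor.map_comp]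
    exact hz

/-- The seesaw subscheme has locally trivial base changes. -/
theorem locally_of_le_ker {T : Scheme.{u}} (u : T ⟶ S) (h : (idealSheaf f c hUc).comap u = ⊥)
    (t : T) : ∃ W : T.Opens, t ∈ W ∧ Tr f c (W.ι ≫ u) := by
  rw [← le_bot_iff, ← Scheme.IdealSheafData.le_map_iff_comap_le, Scheme.IdealSheafData.map_bot] at h
  obtain ⟨_, ⟨V, hV, rfl⟩, htV, -⟩ :=
    S.isBasis_affineOpens.exists_subset_of_mem_open (Set.mem_univ (u t)) isOpen_univ
  let s : PrimeSpectrum Γ(S, V) := hV.primeIdealOf ⟨u t, htV⟩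
  obtain ⟨g, hg, J, hJ⟩ := exists_local_aff f c hUc hV s
  have htg : u t ∈ S.basicOpen g := by
    have h1 : hV.fromSpec s = u t := hV.fromSpec_primeIdealOf ⟨u t, htV⟩
    have h2 : s ∈ hV.fromSpec ⁻¹ᵁ S.basicOpen g := by
      rw [hV.fromSpec_preimage_basicOpen]; exact hg
    rw [← h1]
    exact h2
  obtain ⟨W, hW, htW, hle⟩ := exists_isAffineOpen_mem_and_subset
    (show t ∈ u ⁻¹ᵁ S.basicOpen g from htg)
  have hle' : W ≤ u ⁻¹ᵁ V := hle.trans (u.preimage_mono (S.basicOpen_le g))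
  refine ⟨W, htW, ?_⟩
  let ψ : Γ(S, V) →+* Γ(T, W) := (u.appLE V W hle').hom
  have hI : ∀ a ∈ idl f c ⟨V, hV⟩, ψ a = 0 := fun a ha => by
    have h1 : a ∈ RingHom.ker (u.app V).hom :=
      Scheme.IdealSheafData.ideal_ofIdeals_le _ ⟨V, hV⟩ (h ⟨V, hV⟩ ha)
    show (T.presheaf.map _).hom ((u.app V).hom a) = 0
    rw [RingHom.mem_ker.1 h1, map_zero]
  have hgu : IsUnit (ψ g) := by
    refine RingedSpace.isUnit_of_isUnit_germ _ _ _ fun y hy => (Scheme.mem_basicOpen _ _ y hy).1 ?_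
    show y ∈ T.basicOpen (u.appLE V W hle' g)
    rw [Scheme.basicOpen_appLE]
    exact ⟨hy, hle hy⟩
  have hψ : TrAff f c hV ψ := (hJ _ ψ hgu).2 fun a ha => by
    obtain ⟨n, hn⟩ := exists_pow_mem f c hUc ⟨V, hV⟩ g a fun K _ ψ' hu' hψ' => (hJ K ψ' hu').1 hψ' a ha
    have := hI _ hn
    rw [map_mul, map_pow] at this
    exact ((hgu.pow n).mul_right_eq_zero).1 this
  have h2 : Tr f c (hW.fromSpec ≫ u) := by
    rw [← IsAffineOpen.SpecMap_appLE_fromSpec u hV hW hle']
    exact hψ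
  have h3 := Tr.comp f c h2 hW.isoSpec.hom
  rwa [hW.isoSpec_hom_fromSpec_assoc] at h3

end

end Groth.Agent.Lib.H3.SeesawSch
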