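import Mathlib.Algebra.Algebra.Basic
import Mathlib.RingTheory.Ideal.Span
import Mathlib.Algebra.Module.LinearMap.Defs

/-!
# Linear maps out of a module generated by one element after inverting a function
-/

set_option autoImplicit false

universe u

namespace Groth.Agent.Lib.H3.SeesawSch

noncomputable section

variable {A : Type u} [CommRing A] {R : Type u} [AddCommGroup R] [Module A R] (g : A) (r₀ : R)

/-- The functions killing `r₀` after inverting `g`. -/
def ann : Ideal A where
  carrier := {a | ∃ n : ℕ, g ^ n • a • r₀ = 0}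
  add_mem' := by
    rintro a b ⟨n, hn⟩ ⟨m, hm⟩
    refine ⟨n + m, ?_⟩
    rw [add_smul, smul_add, pow_add, mul_smul, mul_smul, hm, smul_zero, add_zero,
      smul_comm (g ^ n) (g ^ m), hn, smul_zero]
  zero_mem' := ⟨0, by simp⟩
  smul_mem' := by
    rintro c a ⟨n, hn⟩
    exact ⟨n, by rw [smul_eq_mul, mul_smul, smul_comm _ c, hn, smul_zero]⟩

variable {g r₀} (hgen : ∀ r : R, ∃ (n : ℕ) (a : A), g ^ n • r = a • r₀)
  {K : Type u} [CommRing K] [Algebra A K] (hg : IsUnit (algebraMap A K g))

include hg in
theorem pow_smul_injective (n : ℕ) {x y : K} (h : g ^ n • x = g ^ n • y) : x = y := by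
  rw [Algebra.smul_def, Algebra.smul_def, map_pow] at h
  exact (hg.pow n).mul_left_cancel h

include hgen hg in
/-- The annihilator kills all linear maps. -/
theorem smul_eq_zero_of_mem_ann {a : A} (ha : a ∈ ann g r₀) (φ : R →ₗ[A] K) : a • φ = 0 := by
  obtain ⟨m, hm⟩ := ha
  have h0 : a • φ r₀ = 0 := by
    refine pow_smul_injective hg m ?_
    rw [smul_zero, ← map_smul, ← map_smul, hm, map_zero]
  ext r
  obtain ⟨n, b, hb⟩ := hgen r
  refine pow_smul_injective hg n ?_
  rw [LinearMap.smul_apply, LinearMap.zero_apply, smul_zero, smul_comm, ← map_smul, hb, map_smul,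
    smul_comm, h0, smul_zero]

include hgen hg in
/-- When the annihilator vanishes there is a linear map with value one at `r₀`. -/
theorem exists_map_one (h : ∀ a ∈ ann g r₀, algebraMap A K a = 0) :
    ∃ φ : R →ₗ[A] K, φ r₀ = 1 := by
  have hwd : ∀ {r : R} {n m : ℕ} {a b : A}, g ^ n • r = a • r₀ → g ^ m • r = b • r₀ →
      g ^ m • algebraMap A K a = g ^ n • algebraMap A K b := by
    intro r n m a b hn hm
    have hmem : g ^ m * a - g ^ n * b ∈ ann g r₀ := ⟨0, by
      rw [pow_zero, one_smul, sub_smul, mul_smul, mul_smul, ← hn, ← hm, smul_comm, sub_self]⟩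
    have := h _ hmem
    rw [map_sub, sub_eq_zero, map_mul, map_mul] at this
    rwa [Algebra.smul_def, Algebra.smul_def]
  choose n a hna using hgen
  let v : R → K := fun r => ↑(hg.pow (n r)).unit⁻¹ * algebraMap A K (a r)
  have hv : ∀ {r : R} {m : ℕ} {b : A}, g ^ m • r = b • r₀ → g ^ m • v r = algebraMap A K b := by
    intro r m b hb
    refine pow_smul_injective hg (n r) ?_
    rw [smul_comm]
    rw [← hwd (hna r) hb]
    congr 1
    rw [Algebra.smul_def, map_pow, ← mul_assoc, IsUnit.mul_val_inv, one_mul]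
  refine ⟨{ toFun := v, map_add' := fun r r' => ?_, map_smul' := fun c r => ?_ }, ?_⟩
  · refine pow_smul_injective hg (n r + n r') ?_
    have h1 : g ^ (n r + n r') • (r + r') = (g ^ n r' * a r + g ^ n r * a r') • r₀ := by
      rw [smul_add, add_smul, pow_add, mul_smul, mul_smul, mul_smul, mul_smul, hna r',
        smul_comm (g ^ n r) (g ^ n r'), hna r]
    rw [hv h1, map_add, map_mul, map_mul, smul_add, pow_add, mul_smul, mul_smul, hv (hna r'),
      smul_comm (g ^ n r) (g ^ n r'), hv (hna r)]
    simp only [Algebra.smul_def]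
  · refine pow_smul_injective hg (n r) ?_
    have h1 : g ^ n r • c • r = (c * a r) • r₀ := by rw [smul_comm, hna, mul_smul]
    rw [hv h1, RingHom.id_apply, smul_comm, hv (hna r), Algebra.smul_def, map_mul]
  · show v r₀ = 1
    have h1 : g ^ 0 • r₀ = (1 : A) • r₀ := by rw [pow_zero]
    have := hv h1
    rwa [pow_zero, one_smul, map_one] at this

end

end Groth.Agent.Lib.H3.SeesawSch
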