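import Groth.Agent.Lib.Cube.Seesaw

/-!
# Families under change of coefficients
-/

set_option autoImplicit false
set_option linter.style.haveILetI false

universe u

open CategoryTheory CategoryTheory.Limits AlgebraicGeometry TopologicalSpace Opposite
open scoped TensorProduct

namespace Groth.Agent.Lib.H3.SeesawSch

open Groth.Agent.Lib.TensorMod.Dual (rf rf_rf rf_self)
open Groth.Agent.H97.GlueLine (Cocycle)
open Groth.Agent.Lib.Cube.FamFibre Groth.Agent.Lib.Cube.FamCx Groth.Agent.Lib.Cube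
open Groth.Agent.Lib.Cube.AffineBC (str)

noncomputable section

attribute [local instance] algV

variable {A : Type u} [CommRing A] {W : Scheme.{u}} [W.Over (Spec (CommRingCat.of A))]
  {ι : Type u} [Finite ι] {U : ι → W.Opens} (hU : ∀ a, IsAffineOpen (U a))
  {K L : Type u} [CommRing K] [Algebra A K] [CommRing L] [Algebra A L]
  {P Q : Scheme.{u}} {g : P ⟶ W} {p : P ⟶ Spec (CommRingCat.of K)}
  (H : IsPullback g p (W ↘ Spec (CommRingCat.of A)) (Spec.map (CommRingCat.ofHom (algebraMap A K))))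

omit [Algebra A L] in
theorem str_comp (l : Q ⟶ P) (q : Q ⟶ Spec (CommRingCat.of L)) (χ : K →+* L)
    (hl : l ≫ p = q ≫ Spec.map (CommRingCat.ofHom χ)) (V : P.Opens) (k : K) :
    (l.app V).hom ((str p V).hom k) = (str q (l ⁻¹ᵁ V)).hom (χ k) := by
  have e1 : (Scheme.ΓSpecIso (CommRingCat.of L)).inv (χ k) =
      (Spec.map (CommRingCat.ofHom χ)).appTop ((Scheme.ΓSpecIso (CommRingCat.of K)).inv k) := by
    have := ConcreteCategory.congr_hom (Scheme.ΓSpecIso_inv_naturality (CommRingCat.ofHom χ)) k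
    exact this
  show (p.appLE ⊤ V le_top ≫ l.app V).hom ((Scheme.ΓSpecIso (CommRingCat.of K)).inv k) =
    (q.appLE ⊤ (l ⁻¹ᵁ V) le_top).hom ((Scheme.ΓSpecIso (CommRingCat.of L)).inv (χ k))
  rw [e1]
  show _ = ((Spec.map (CommRingCat.ofHom χ)).appTop ≫ q.appLE ⊤ (l ⁻¹ᵁ V) le_top).hom _
  congr 2
  show p.appLE ⊤ V le_top ≫ l.app V =
    (Spec.map (CommRingCat.ofHom χ)).app ⊤ ≫ q.appLE ⊤ (l ⁻¹ᵁ V) le_top
  rw [Scheme.Hom.app_eq_appLE, Scheme.Hom.app_eq_appLE]
  erw [Scheme.Hom.appLE_comp_appLE, Scheme.Hom.appLE_comp_appLE]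
  simp only [hl]

/-- Families after a change of coefficients are pulled back. -/
theorem mus_map (l : Q ⟶ P) (q : Q ⟶ Spec (CommRingCat.of L))
    (H' : IsPullback (l ≫ g) q (W ↘ Spec (CommRingCat.of A))
      (Spec.map (CommRingCat.ofHom (algebraMap A L))))
    (χ : K →ₐ[A] L) (hl : l ≫ p = q ≫ Spec.map (CommRingCat.ofHom χ.toRingHom))
    (z : (∀ a, Γ(W, U a)) ⊗[A] K) (a : ι) :
    mus H' hU (χ.toLinearMap.lTensor _ z) a = (l.app (g ⁻¹ᵁ U a)).hom (mus H hU z a) := by
  induction z using TensorProduct.induction_on with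
  | zero => rw [map_zero, mus_zero, mus_zero]; exact (map_zero _).symm
  | add x y hx hy =>
    rw [map_add, mus_add, mus_add, Pi.add_apply, Pi.add_apply, hx, hy]
    exact (map_add _ _ _).symm
  | tmul x k =>
    rw [LinearMap.lTensor_tmul, mus_tmul, mus_tmul, map_mul, str_comp l q χ.toRingHom hl]
    rfl

/-- Families and multiplication by scalars. -/
theorem mus_mulLeft (x : K) (z : (∀ a, Γ(W, U a)) ⊗[A] K) (a : ι) :
    mus H hU ((LinearMap.mulLeft A x).lTensor _ z) a = (str p (g ⁻¹ᵁ U a)).hom x * mus H hU z a := by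
  induction z using TensorProduct.induction_on with
  | zero => rw [map_zero, mus_zero]; exact (mul_zero _).symm
  | add y y' hy hy' =>
    rw [map_add, mus_add, mus_add, Pi.add_apply, Pi.add_apply, hy, hy', mul_add]
  | tmul y k =>
    rw [LinearMap.lTensor_tmul, mus_tmul, mus_tmul, LinearMap.mulLeft_apply, map_mul]
    exact mul_left_comm _ _ _

end

end Groth.Agent.Lib.H3.SeesawSch
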