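import Groth.Agent.Lib.H3.SeesawSch.Rep
import Groth.Agent.Lib.H3.SeesawSch.Ann
import Groth.Agent.Lib.H3.SeesawSch.Mus
import Groth.Agent.Lib.Cube.NN.Seesaw
import Groth.Agent.H2.Rigid.PushFlat

/-!
# The seesaw subscheme near a point of an affine base
-/

set_option autoImplicit false
set_option linter.style.haveILetI false

universe u

open CategoryTheory CategoryTheory.Limits AlgebraicGeometry TopologicalSpace Opposite
open scoped TensorProduct

namespace Groth.Agent.Lib.H3.SeesawSch

open Groth.Agent.Lib.TensorMod.Dual (rf rf_rf rf_self)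
open Groth.Agent.H97.GlueLine (Cocycle)
open Groth.Agent.Lib Groth.Agent.Lib.Cube Groth.Agent.Lib.Cube.Triv Groth.Agent.Lib.Cube.Dvr
open Groth.Agent.Lib.Cube.FamCx Groth.Agent.Lib.Cube.FamRep Groth.Agent.Lib.Cube.FamFibre
open Groth.Agent.Lib.Cube.AffineBC (str)

noncomputable section

attribute [local instance] algV

/-- A flat proper morphism with geometrically integral fibres has constant functions. -/
theorem bijective_appTop {P T : Scheme.{u}} (p : P ⟶ T) [IsProper p] [Flat p]
    [LocallyOfFinitePresentation p] [GeometricallyIntegral p] : Function.Bijective p.appTop.hom :=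
  H2.Rigid.PushFlat.push_of_flat_fp p (Cube.SeesawCons.h0_of_geometricallyIntegral p).1 ⊤

variable {A : Type u} [CommRing A] [IsNoetherianRing A] {W : Scheme.{u}}
  [W.Over (Spec (CommRingCat.of A))] [IsProper (W ↘ Spec (CommRingCat.of A))]
  [Flat (W ↘ Spec (CommRingCat.of A))] [GeometricallyIntegral (W ↘ Spec (CommRingCat.of A))]
  [LocallyOfFinitePresentation (W ↘ Spec (CommRingCat.of A))]
  {ι : Type u} [Finite ι] {U : ι → W.Opens} (c : Cocycle U)
  (hU : ∀ a, IsAffineOpen (U a)) (hUc : iSup U = ⊤)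

local notation "pW" => (W ↘ Spec (CommRingCat.of A))

/-- The base change to an algebra. -/
abbrev bcP (K : Type u) [CommRing K] [Algebra A K] : Scheme.{u} :=
  pullback pW (Spec.map (CommRingCat.ofHom (algebraMap A K)))

/-- The projection to `W`. -/
abbrev bcG (K : Type u) [CommRing K] [Algebra A K] : bcP (A := A) (W := W) K ⟶ W :=
  pullback.fst pW (Spec.map (CommRingCat.ofHom (algebraMap A K)))

/-- The projection to the algebra. -/
abbrev bcQ (K : Type u) [CommRing K] [Algebra A K] : bcP (A := A) (W := W) K ⟶ Spec (CommRingCat.of K) :=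
  pullback.snd pW (Spec.map (CommRingCat.ofHom (algebraMap A K)))

/-- Trivial after base change to an algebra. -/
def TrivOn (K : Type u) [CommRing K] [Algebra A K] : Prop := TrivAlong c (bcG (A := A) (W := W) K)

include hU hUc in
/-- A family with a non-zero value on a field, and an inverse one, make a trivialisation. -/
theorem trivOn_of_families {K : Type u} [CommRing K] [Algebra A K]
    (z : fam A c K) (z' : fam A (Special.invC c) K)
    (hz : ∀ (m : PrimeSpectrum K),
      (IsScalarTower.toAlgHom A K m.asIdeal.ResidueField).toLinearMap.lTensor _ z.1 ≠ 0)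
    (hz' : ∀ (m : PrimeSpectrum K),
      (IsScalarTower.toAlgHom A K m.asIdeal.ResidueField).toLinearMap.lTensor _ z'.1 ≠ 0) :
    TrivOn (A := A) c K := by
  have hU2 := Seesaw.isAffineOpen_inf A hU
  have H : IsPullback (bcG (A := A) (W := W) K) (bcQ (A := A) (W := W) K) pW
      (Spec.map (CommRingCat.ofHom (algebraMap A K))) := IsPullback.of_hasPullback _ _
  have hx : IsRel (Triv.comap c (bcG (A := A) (W := W) K)) (mus H hU z.1) :=
    (mem_fam_iff H c hU hU2 z.1).1 z.2
  refine ⟨mus H hU z.1, fun a => ?_, fun a b => hx a b _ (pre_mono _ inf_le_left) (pre_mono _ inf_le_right)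
    |>.trans (congrArg (· * _) (rf_self _ _))⟩
  suffices hq : bcG (A := A) (W := W) K ⁻¹ᵁ U a ≤ (bcP (A := A) (W := W) K).basicOpen (mus H hU z.1 a) by
    exact RingedSpace.isUnit_of_isUnit_germ _ _ _ fun x hx =>
      (Scheme.mem_basicOpen _ _ x hx).1 (hq hx)
  intro q hqa
  let m : PrimeSpectrum K := bcQ (A := A) (W := W) K q
  let L := m.asIdeal.ResidueField
  let χ : K →ₐ[A] L := IsScalarTower.toAlgHom A K L
  let σ := Spec.map (CommRingCat.ofHom χ.toRingHom)
  let pL := pullback.snd (bcQ (A := A) (W := W) K) σ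
  let l := pullback.fst (bcQ (A := A) (W := W) K) σ
  have hl : l ≫ bcQ (A := A) (W := W) K = pL ≫ σ := pullback.condition
  have hσ : σ ≫ Spec.map (CommRingCat.ofHom (algebraMap A K)) =
      Spec.map (CommRingCat.ofHom (algebraMap A L)) := by
    rw [← Spec.map_comp, ← CommRingCat.ofHom_comp]
    exact congrArg (fun f => Spec.map (CommRingCat.ofHom f)) χ.comp_algebraMap
  have H' : IsPullback (l ≫ bcG (A := A) (W := W) K) pL pW (Spec.map (CommRingCat.ofHom (algebraMap A L))) :=
    hσ ▸ (IsPullback.of_hasPullback (bcQ (A := A) (W := W) K) σ).paste_horiz H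
  haveI : IsIntegral (pullback (bcQ (A := A) (W := W) K) σ) :=
    GeometricallyIntegral.isIntegral_of_subsingleton pL
  have hx' : IsRel (Triv.comap c (l ≫ bcG (A := A) (W := W) K)) (mus H' hU (χ.toLinearMap.lTensor _ z.1)) := by
    refine (mem_fam_iff H' c hU hU2 _).1 ?_
    rw [← LinearMap.comp_apply, LinearMap.rTensor_comp_lTensor, ← LinearMap.lTensor_comp_rTensor,
      LinearMap.comp_apply, show (dev (A := A) c).rTensor K z.1 = 0 from z.2, map_zero]
  have hy : IsRel (Special.invC (Triv.comap c (l ≫ bcG (A := A) (W := W) K)))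
      (mus H' hU (χ.toLinearMap.lTensor _ z'.1)) := by
    have hy' : IsRel (Triv.comap (Special.invC c) (l ≫ bcG (A := A) (W := W) K))
        (mus H' hU (χ.toLinearMap.lTensor _ z'.1)) := by
      refine (mem_fam_iff H' (Special.invC c) hU hU2 _).1 ?_
      rw [← LinearMap.comp_apply, LinearMap.rTensor_comp_lTensor, ← LinearMap.lTensor_comp_rTensor,
        LinearMap.comp_apply, show (dev (A := A) (Special.invC c)).rTensor K z'.1 = 0 from z'.2,
        map_zero]
    intro i j V hi hj
    rw [← NN.invC_comap]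
    exact hy' i j V hi hj
  have hne : ∀ w, w ≠ 0 → mus H' hU w ≠ 0 := fun w hw h =>
    hw ((mus_bijective H' hU).1 (h.trans (mus_zero H' hU).symm))
  have hu := Seesaw.isUnit_of_pair pL (bijective_appTop pL)
    (by rw [← Scheme.Hom.preimage_iSup, hUc]; rfl) hx' hy (hne _ (hz m)) (hne _ (hz' m)) a
  rw [mus_map hU H l pL H' χ hl] at hu
  obtain ⟨q', hq', -⟩ := Scheme.Pullback.exists_preimage_pullback q
    (IsLocalRing.closedPoint L) (f := bcQ (A := A) (W := W) K) (g := σ) (by
      refine PrimeSpectrum.ext ?_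
      show m.asIdeal = Ideal.comap (algebraMap K L) (IsLocalRing.maximalIdeal L)
      rw [IsLocalRing.maximalIdeal_eq_bot, ← RingHom.ker_eq_comap_bot]
      exact (Ideal.ker_algebraMap_residueField m.asIdeal).symm)
  have h1 : q' ∈ l ⁻¹ᵁ (bcG (A := A) (W := W) K ⁻¹ᵁ U a) := by
    show l q' ∈ bcG (A := A) (W := W) K ⁻¹ᵁ U a
    rw [hq']; exact hqa
  rw [← Scheme.basicOpen_of_isUnit _ hu, ← Scheme.preimage_basicOpen] at h1
  exact hq' ▸ h1

include hU hUc in
/-- Families on a field point where the cocycle is trivial are proportional. -/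
theorem exists_proportional {R : ModuleCat.{u} A}
    (e : ∀ M : ModuleCat.{u} A, fam A c M ≃ₗ[A] (R →ₗ[A] M))
    (he : ∀ {M N : ModuleCat.{u} A} (g : M →ₗ[A] N) (z : fam A c M)
        (hz : (dev (A := A) c).rTensor N (g.lTensor _ z.1) = 0),
        e N ⟨g.lTensor _ z.1, hz⟩ = g ∘ₗ e M z)
    (L : Type u) [Field L] [Algebra A L] (ht : TrivOn (A := A) c L) :
    ∃ φ₀ : R →ₗ[A] L, ∀ φ : R →ₗ[A] L, ∃ x : L, ∀ r, φ r = x * φ₀ r := by
  have hU2 := Seesaw.isAffineOpen_inf A hU
  have H : IsPullback (bcG (A := A) (W := W) L) (bcQ (A := A) (W := W) L) pW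
      (Spec.map (CommRingCat.ofHom (algebraMap A L))) := IsPullback.of_hasPullback _ _
  obtain ⟨v, hv, hve⟩ := ht
  have hrel := Special.isRel_of_triv hve
  obtain ⟨z₀, hz₀⟩ := (mus_bijective H hU).2 v
  have hz₁ : (dev (A := A) c).rTensor L z₀ = 0 :=
    (mem_fam_iff H c hU hU2 z₀).2 (by rw [hz₀]; exact hrel)
  refine ⟨e (ModuleCat.of A L) ⟨z₀, hz₁⟩, fun φ => ?_⟩
  obtain ⟨w, hw⟩ := (e (ModuleCat.of A L)).surjective φ
  obtain ⟨x, hx⟩ := Special.exists_const_mul (bcQ (A := A) (W := W) L) (bijective_appTop _)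
    (by rw [← Scheme.Hom.preimage_iSup, hUc]; rfl) hrel hv ((mem_fam_iff H c hU hU2 w.1).1 w.2)
  have hwz : (LinearMap.mulLeft A x).lTensor _ z₀ = w.1 := (mus_bijective H hU).1 (funext fun a => by
    rw [mus_mulLeft hU H, hz₀]
    exact (hx a).symm)
  have hwk : (dev (A := A) c).rTensor L ((LinearMap.mulLeft A x).lTensor _ z₀) = 0 := by
    rw [hwz]; exact w.2
  refine ⟨x, fun r => ?_⟩
  have h := he (M := ModuleCat.of A L) (N := ModuleCat.of A L) (LinearMap.mulLeft A x) ⟨z₀, hz₁⟩ hwk
  have hw' : (⟨(LinearMap.mulLeft A x).lTensor _ z₀, hwk⟩ : fam A c (ModuleCat.of A L)) = w :=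
    Subtype.ext hwz
  rw [hw', hw] at h
  exact LinearMap.congr_fun h r

omit [IsNoetherianRing A] in
/-- Proportional maps to a field bound the fibre rank by one. -/
theorem fdim_le_one {R : Type u} [AddCommGroup R] [Module A R] [Module.Finite A R]
    (L : Type u) [Field L] [Algebra A L] (s : PrimeSpectrum A)
    [Algebra s.asIdeal.ResidueField L] [IsScalarTower A s.asIdeal.ResidueField L]
    (h : ∃ φ₀ : R →ₗ[A] L, ∀ φ : R →ₗ[A] L, ∃ x : L, ∀ r, φ r = x * φ₀ r) :
    FlatCx.Rank.fdim R s ≤ 1 := by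
  obtain ⟨φ₀, hφ₀⟩ := h
  have hdual : Module.finrank L (Module.Dual L (L ⊗[A] R)) ≤ 1 :=
    finrank_le_one (φ₀.liftBaseChange L) fun φ => by
      obtain ⟨x, hx⟩ := hφ₀ ((LinearMap.liftBaseChangeEquiv L).symm φ)
      refine ⟨x, TensorProduct.AlgebraTensorModule.ext fun a r => ?_⟩
      have h1 : φ (1 ⊗ₜ r) = x * φ₀ r := hx r
      have h2 : φ (a ⊗ₜ r) = a * φ (1 ⊗ₜ r) := by
        rw [← smul_eq_mul, ← map_smul, TensorProduct.smul_tmul', smul_eq_mul, mul_one]
      rw [h2, h1]
      simp [mul_left_comm]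
  rw [Subspace.dual_finrank_eq] at hdual
  have h1 : Module.finrank L (L ⊗[A] R) = FlatCx.Rank.fdim R s := by
    rw [← (TensorProduct.AlgebraTensorModule.cancelBaseChange A s.asIdeal.ResidueField L L R).finrank_eq,
      Module.finrank_baseChange]
    rfl
  omega

include hU hUc in
/-- Functions killing the families on a trivial base change vanish there. -/
theorem algebraMap_eq_zero {K : Type u} [CommRing K] [Algebra A K] {R : ModuleCat.{u} A}
    (e : ∀ M : ModuleCat.{u} A, fam A c M ≃ₗ[A] (R →ₗ[A] M)) {a : A} (hT : TrivOn (A := A) c K)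
    (ha : ∀ φ : R →ₗ[A] K, a • φ = 0) : algebraMap A K a = 0 := by
  obtain ⟨ε⟩ := Seesaw.nonempty_lineEquiv c hU (Seesaw.isAffineOpen_inf A hU)
    (IsPullback.of_hasPullback _ _) (bijective_appTop (bcQ (A := A) (W := W) K)) hUc hT
  have h1 : ∀ w : fam A c (ModuleCat.of A K), a • w = 0 := fun w =>
    (e (ModuleCat.of A K)).map_eq_zero_iff.1 (((e (ModuleCat.of A K)).map_smul a w).trans (ha _))
  have h2 : a • (1 : K) = 0 := ε.map_eq_zero_iff.1 ((ε.map_smul a 1).trans (h1 _))
  rwa [Algebra.smul_def, mul_one] at h2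

include hU hUc in
/-- Near every point of the base, triviality after base change is the vanishing of an ideal. -/
theorem exists_local (s : PrimeSpectrum A) :
    ∃ g : A, g ∉ s.asIdeal ∧ ∃ J : Ideal A, ∀ (K : Type u) [CommRing K] [Algebra A K],
      IsUnit (algebraMap A K g) → (TrivOn (A := A) c K ↔ ∀ a ∈ J, algebraMap A K a = 0) := by
  by_cases hs : NN.TrivPt pW c s
  · obtain ⟨L, _, σ, hσ, htriv⟩ := hs
    obtain ⟨χ, rfl⟩ := Spec.map_surjective σ
    letI : Algebra A L := χ.hom.toAlgebra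
    have hker : s.asIdeal = RingHom.ker (algebraMap A L) := by
      rw [← hσ]
      show Ideal.comap (algebraMap A L) (IsLocalRing.maximalIdeal L) = _
      rw [IsLocalRing.maximalIdeal_eq_bot]
      exact (RingHom.ker_eq_comap_bot _).symm
    let χs := Ideal.ResidueField.liftₐ s.asIdeal (Algebra.ofId A L) hker.le fun a ha =>
      (show algebraMap A L a ≠ 0 from fun h => ha (hker ▸ h)).isUnit
    letI : Algebra s.asIdeal.ResidueField L := χs.toRingHom.toAlgebra
    haveI : IsScalarTower A s.asIdeal.ResidueField L :=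
      IsScalarTower.of_algebraMap_eq fun a => (χs.commutes a).symm
    obtain ⟨R, hR, e, he⟩ := exists_natRep (A := A) c hU hUc
    obtain ⟨R', hR', e', he'⟩ := exists_natRep (A := A) (Special.invC c) hU hUc
    have gen : ∀ (M : ModuleCat.{u} A) [Module.Finite A M], FlatCx.Rank.fdim M s ≤ 1 →
        ∃ (g : A) (r₀ : M), g ∉ s.asIdeal ∧ ∀ r : M, ∃ a : A, g • r = a • r₀ := by
      intro M _ hM
      obtain ⟨G, hG⟩ := FlatCx.Rank.exists_generators_near M s
      rw [Module.support_eq_zeroLocus, PrimeSpectrum.mem_zeroLocus, Set.not_subset] at hG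
      obtain ⟨g, hg, hgs⟩ := hG
      haveI : Subsingleton (Fin (FlatCx.Rank.fdim M s)) := Fin.subsingleton_iff_le_one.2 hM
      refine ⟨g, G fun _ => 1, hgs, fun r => ?_⟩
      obtain ⟨x, hx⟩ : g • r ∈ LinearMap.range G := by
        rw [← Submodule.Quotient.mk_eq_zero, Submodule.Quotient.mk_smul]
        exact Module.mem_annihilator.1 hg _
      rcases isEmpty_or_nonempty (Fin (FlatCx.Rank.fdim M s)) with h | ⟨⟨i⟩⟩
      · exact ⟨0, by rw [zero_smul, ← hx, Subsingleton.elim x 0, map_zero]⟩
      · exact ⟨x i, by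
          rw [← hx, ← map_smul]
          congr 1
          funext j
          rw [Subsingleton.elim j i, Pi.smul_apply, smul_eq_mul, mul_one]⟩
    obtain ⟨g, r₀, hg, hgen⟩ := gen R (fdim_le_one L s (exists_proportional c hU hUc e he L htriv))
    obtain ⟨g', r₀', hg', hgen'⟩ := gen R'
      (fdim_le_one L s (exists_proportional (Special.invC c) hU hUc e' he' L
        (Special.trivAlong_invC htriv)))
    refine ⟨g * g', fun h => (s.isPrime.mem_or_mem h).elim hg hg', ann g r₀ ⊔ ann g' r₀',
      fun K _ _ hK => ?_⟩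
    rw [map_mul] at hK
    have hgK := isUnit_of_mul_isUnit_left hK
    have hgK' := isUnit_of_mul_isUnit_right hK
    have hgen1 : ∀ r : R, ∃ (n : ℕ) (a : A), g ^ n • r = a • r₀ := fun r =>
      let ⟨a, ha⟩ := hgen r; ⟨1, a, by rw [pow_one]; exact ha⟩
    have hgen1' : ∀ r : R', ∃ (n : ℕ) (a : A), g' ^ n • r = a • r₀' := fun r =>
      let ⟨a, ha⟩ := hgen' r; ⟨1, a, by rw [pow_one]; exact ha⟩
    constructor
    · intro hT
      have hle : ann g r₀ ⊔ ann g' r₀' ≤ RingHom.ker (algebraMap A K) := by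
        refine sup_le (fun a ha => ?_) fun a ha => ?_
        · exact algebraMap_eq_zero c hU hUc e hT (smul_eq_zero_of_mem_ann hgen1 hgK ha)
        · exact algebraMap_eq_zero (Special.invC c) hU hUc e' (Special.trivAlong_invC hT)
            (smul_eq_zero_of_mem_ann hgen1' hgK' ha)
      exact fun a ha => hle ha
    · intro hJ
      obtain ⟨φ, hφ⟩ := exists_map_one hgen1 hgK fun a ha => hJ a (le_sup_left (b := ann g' r₀') ha)
      obtain ⟨φ', hφ'⟩ := exists_map_one hgen1' hgK' fun a ha => hJ a (le_sup_right (a := ann g r₀) ha)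
      have nz : ∀ (c : Cocycle U) (R : ModuleCat.{u} A) (r₀ : R)
          (e : ∀ M : ModuleCat.{u} A, fam A c M ≃ₗ[A] (R →ₗ[A] M))
          (_ : ∀ {M N : ModuleCat.{u} A} (g : M →ₗ[A] N) (z : fam A c M)
            (hz : (dev (A := A) c).rTensor N (g.lTensor _ z.1) = 0),
            e N ⟨g.lTensor _ z.1, hz⟩ = g ∘ₗ e M z) (φ : R →ₗ[A] K) (_ : φ r₀ = 1)
          (m : PrimeSpectrum K),
          (IsScalarTower.toAlgHom A K m.asIdeal.ResidueField).toLinearMap.lTensor _
            ((e (ModuleCat.of A K)).symm φ).1 ≠ 0 := by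
        intro c R r₀ e he φ hφ m h0
        let χ := (IsScalarTower.toAlgHom A K m.asIdeal.ResidueField).toLinearMap
        have hz : (dev (A := A) c).rTensor m.asIdeal.ResidueField
            (χ.lTensor _ ((e (ModuleCat.of A K)).symm φ).1) = 0 := by rw [h0, map_zero]
        have h := he (M := ModuleCat.of A K) (N := ModuleCat.of A m.asIdeal.ResidueField) χ
          ((e (ModuleCat.of A K)).symm φ) hz
        rw [LinearEquiv.apply_symm_apply] at h
        have h2 := LinearMap.congr_fun h r₀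
        rw [show (⟨χ.lTensor _ ((e (ModuleCat.of A K)).symm φ).1, hz⟩ :
            fam A c (ModuleCat.of A m.asIdeal.ResidueField)) = 0 from Subtype.ext h0, LinearEquiv.map_zero,
          LinearMap.comp_apply, hφ] at h2
        exact one_ne_zero (h2.trans (map_one (IsScalarTower.toAlgHom A K m.asIdeal.ResidueField))).symm
      exact trivOn_of_families c hU hUc _ _ (nz c R r₀ e he φ hφ) (nz _ R' r₀' e' he' φ' hφ')
  · have hcl := NN.isClosed_trivPt pW hUc c
    obtain ⟨_, ⟨g, rfl⟩, hgs, hgd⟩ := PrimeSpectrum.isTopologicalBasis_basic_opens.exists_subset_of_mem_open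
      (show s ∈ {t : Spec (CommRingCat.of A) | NN.TrivPt pW c t}ᶜ from hs) hcl.isOpen_compl
    refine ⟨g, hgs, ⊤, fun K _ _ hK => ⟨fun hT a _ => ?_, fun h => ?_⟩⟩
    · by_contra ha
      haveI : Nontrivial K := ⟨⟨_, _, ha⟩⟩
      obtain ⟨m, hm⟩ := Ideal.exists_maximal K
      letI : Field (K ⧸ m) := Ideal.Quotient.field m
      let σ := Spec.map (CommRingCat.ofHom (algebraMap A (K ⧸ m)))
      let t : Spec (CommRingCat.of A) := σ (IsLocalRing.closedPoint (K ⧸ m))
      have ht : NN.TrivPt pW c t := ⟨K ⧸ m, inferInstance, σ, rfl, by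
        let l : pullback pW σ ⟶ bcP (A := A) (W := W) K := pullback.lift (pullback.fst _ _)
          (pullback.snd _ _ ≫ Spec.map (CommRingCat.ofHom (Ideal.Quotient.mk m))) (by
            rw [pullback.condition, Category.assoc, ← Spec.map_comp]
            rfl)
        exact (hT.comp l).of_eq (pullback.lift_fst _ _ _)⟩
      refine hgd (show g ∉ t.asIdeal from fun h => ?_) ht
      exact ((hK.map (Ideal.Quotient.mk m)).ne_zero) ((IsLocalRing.maximalIdeal_eq_bot (R := K ⧸ m)).le h)
    · haveI : Subsingleton K := subsingleton_of_zero_eq_one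
        ((map_one (algebraMap A K)).symm.trans (h 1 trivial)).symm
      haveI : IsEmpty (Spec (CommRingCat.of K)) := inferInstanceAs (IsEmpty (PrimeSpectrum K))
      haveI : IsEmpty (bcP (A := A) (W := W) K) := Function.isEmpty (bcQ (A := A) (W := W) K)
      exact ⟨fun _ => 1, fun _ => isUnit_one, fun _ _ => Subsingleton.elim _ _⟩

end

end Groth.Agent.Lib.H3.SeesawSch
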