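import Groth.Agent.Lib.Cube.Seesaw
import Groth.Agent.Lib.Exchange.Corep
import Groth.Agent.Lib.Exchange.Main

/-!
# Invariant families as linear maps out of a finite module
-/

set_option autoImplicit false
set_option linter.style.haveILetI false

universe u

open CategoryTheory CategoryTheory.Limits AlgebraicGeometry TopologicalSpace Opposite
open scoped TensorProduct

namespace Groth.Agent.Lib.H3.SeesawSch

open Groth.Agent.H97.GlueLine (Cocycle glue isInvertible_glue)
open Groth.Agent.Lib Groth.Agent.Lib.Cube.FamCx Groth.Agent.Lib.Cube.FamRep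
open _root_.ZarCoh.Exchange.Complex _root_.ZarCoh.Exchange.Compare _root_.ZarCoh.Exchange.Main
open Groth.Agent.Lib.Cech.Complex (inter)

noncomputable section

attribute [local instance] algV

variable {A : Type u} [CommRing A] [IsNoetherianRing A] {W : Scheme.{u}}
  [W.Over (Spec (CommRingCat.of A))] [IsProper (W ↘ Spec (CommRingCat.of A))]
  [Flat (W ↘ Spec (CommRingCat.of A))] {ι : Type u} [Finite ι] {U : ι → W.Opens} (c : Cocycle U)

omit [IsNoetherianRing A] [IsProper (W ↘ Spec (CommRingCat.of A))]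
  [Flat (W ↘ Spec (CommRingCat.of A))] [Finite ι] in
/-- Two functors computing the same cohomology are linearly and naturally equal. -/
theorem exists_transfer (F : W.Modules) {p : ℕ} {T₁ T₂ : ModuleCat.{u} A ⥤ ModuleCat.{u} A}
    [T₁.Linear A] [T₂.Linear A]
    (e₁ : T₁ ⋙ forget₂ (ModuleCat.{u} A) AddCommGrpCat.{u} ≅
      CohIII.tensorAFunctor A F ⋙ CohIII.HAb W p)
    (e₂ : T₂ ⋙ forget₂ (ModuleCat.{u} A) AddCommGrpCat.{u} ≅
      CohIII.tensorAFunctor A F ⋙ CohIII.HAb W p) :
    ∃ e : ∀ M : ModuleCat.{u} A, T₁.obj M ≃ₗ[A] T₂.obj M,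
      ∀ {M N : ModuleCat.{u} A} (g : M ⟶ N) (x : T₁.obj M), e N (T₁.map g x) = T₂.map g (e M x) := by
  refine ⟨fun M => (linearEquivApp A F e₁ M).trans (linearEquivApp A F e₂ M).symm,
    fun {M N} g x => ?_⟩
  have h1 : linearEquivApp A F e₁ N (T₁.map g x) =
      (CohIII.tensorAFunctor A F ⋙ CohIII.HAb W p).map g (linearEquivApp A F e₁ M x) :=
    ConcreteCategory.congr_hom (e₁.hom.naturality g) x
  let y : T₂.obj M := (linearEquivApp A F e₂ M).symm (linearEquivApp A F e₁ M x)
  have hy : linearEquivApp A F e₂ M y = linearEquivApp A F e₁ M x :=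
    (linearEquivApp A F e₂ M).apply_symm_apply _
  have h2 : linearEquivApp A F e₂ N (T₂.map g y) =
      (CohIII.tensorAFunctor A F ⋙ CohIII.HAb W p).map g (linearEquivApp A F e₂ M y) :=
    ConcreteCategory.congr_hom (e₂.hom.naturality g) y
  rw [hy] at h2
  exact (LinearEquiv.symm_apply_eq _).2 (h1.trans h2.symm)

/-- Invariant families are corepresented by a finite module, naturally. -/
theorem exists_natRep (hU : ∀ a, IsAffineOpen (U a)) (hUc : iSup U = ⊤) :
    ∃ (R : ModuleCat.{u} A) (_ : Module.Finite A R)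
      (e : ∀ M : ModuleCat.{u} A, fam A c M ≃ₗ[A] (R →ₗ[A] M)),
      ∀ {M N : ModuleCat.{u} A} (g : M →ₗ[A] N) (z : fam A c M)
        (hz : (dev (A := A) c).rTensor N (g.lTensor _ z.1) = 0),
        e N ⟨g.lTensor _ z.1, hz⟩ = g ∘ₗ e M z := by
  have hcoh : Coh.IsCoh (glue c) :=
    haveI : IsLocallyNoetherian W := LocallyOfFiniteType.isLocallyNoetherian (W ↘ Spec (CommRingCat.of A))
    Ample.GG.isCoh_of_isInvertible (isInvertible_glue c hUc)
  haveI : (glue c).IsQuasicoherent := hcoh.1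
  have hfl : FlatMod.IsFlatOver (W ↘ Spec (CommRingCat.of A)) (glue c) :=
    isFlatOver_of_isInvertible _ (isInvertible_glue c hUc)
  obtain ⟨b, P, -, hfin, hfree, hpos, hiso⟩ :=
    _root_.ZarCoh.Exchange.Proper.exists_rep A (glue c) hcoh hfl
  haveI := hfree
  haveI := hfin
  haveI : W.IsSeparated :=
    ⟨by rw [← terminal.comp_from (W ↘ Spec (CommRingCat.of A))]; infer_instance⟩
  have hUi : ∀ {q : ℕ} (i : Fin (q + 1) → ι), IsAffineOpen (inter U i) := fun i =>
    IsAffineOpen.iInf fun a => hU (i a)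
  obtain ⟨eP⟩ := hiso 0
  obtain ⟨eC'⟩ := nonempty_natIso A U (glue c) hUi hUc 0
  have h1 : (CohIII.TFun P 1).PreservesEpimorphisms := ⟨fun {M N} g _ =>
    (ModuleCat.epi_iff_surjective _).2 fun y => by
      haveI := ModuleCat.subsingleton_of_isZero (hpos 1 one_pos N)
      exact ⟨0, Subsingleton.elim (α := CohIII.T P 1 N) _ _⟩⟩
  have hq : (-((0 : ℕ) : ℤ)) + 1 = 1 := by simp
  haveI := (FlatCx.Basic.preservesEpi_iff P 1 _ hq).1 h1
  haveI : Module.FinitePresentation A (FlatCx.Basic.Q P (-((0 : ℕ) : ℤ))) :=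
    Module.finitePresentation_of_finite A _
  haveI : Module.Projective A (FlatCx.Basic.Q P (-((0 : ℕ) : ℤ))) :=
    Module.Flat.projective_of_finitePresentation
  obtain ⟨R, hR, ⟨r⟩⟩ :=
    _root_.ZarCoh.Exchange.Corep.exists_corep P (p := -((0 : ℕ) : ℤ)) (q := -1) (by simp)
  obtain ⟨t, ht⟩ := exists_transfer (glue c) eC' eP
  let e : ∀ M : ModuleCat.{u} A, fam A c M ≃ₗ[A] (R →ₗ[A] M) := fun M =>
    ((LinearEquiv.ofBijective _ (famToT_bijective c M)).trans (t M)).trans
      ((r.app M).toLinearEquiv.trans (ModuleCat.homLinearEquiv (R := A) (S := A)))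
  refine ⟨R, hR, e, fun {M N} g z hz => ?_⟩
  let g' : M ⟶ N := ModuleCat.ofHom g
  have hT : (CohIII.TFun (C A U (glue c)) ((0 : ℕ) : ℤ)).map g' (famToT c M z) =
      famToT c N ⟨g.lTensor _ z.1, hz⟩ :=
    FlatCx.Elem.homologyMap_cls (CohIII.tensorMap (C A U (glue c)) g') (next_eq 0) _ _
      (eC_lTensor c g' z.1)
  have h2 := ht g' (famToT c M z)
  rw [hT] at h2
  show (ModuleCat.homLinearEquiv (R := A) (S := A)) ((r.app N).toLinearEquiv (t N (famToT c N ⟨g.lTensor _ z.1, hz⟩))) =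
    g ∘ₗ (ModuleCat.homLinearEquiv (R := A) (S := A)) ((r.app M).toLinearEquiv (t M (famToT c M z)))
  rw [h2]
  exact congrArg ModuleCat.Hom.hom (ConcreteCategory.congr_hom (r.hom.naturality g') (t M (famToT c M z)))

end

end Groth.Agent.Lib.H3.SeesawSch
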